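import Cfsg.Agent.Lib.MonsterLocal52.HaradaNorton.Data
import Cfsg.Agent.Lib.M24Classes.Centralizers

/-!
The checks on the coded data for the permutation of order 5, with the enumeration of its
centraliser in the code group.

Owner: helper52.
-/

set_option autoImplicit false
set_option maxRecDepth 20000

namespace Cfsg.Agent.Lib.MonsterLocal52.HaradaNorton

open Cfsg Cfsg.Agent.Lib.Golay Cfsg.Agent.Lib.M24Classes
open Cfsg.Agent.Lib.Computation (getW)

theorem ok_lat : data.ok = true := by decide +kernel

theorem ok_objs : data.objsOK = true := by decide +kernel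

theorem ok_gens : data.gensOK = true := by decide +kernel

theorem ok_tree : data.treeOK = true := by decide +kernel

theorem ok_cover : data.coverOK = true := by decide +kernel

theorem ok_root : data.rootOK = true := by decide +kernel

theorem ok_fix : data.fixOK = true := by decide +kernel

theorem ok_ker : data.kerOK = true := by decide +kernel

/-- The enumeration of the centraliser. -/
def centOK : Bool :=
  inM24 data.r && Centralizers.imgsAre data.r 0 1 2 3 &&
    Centralizers.imgsAre oneCode 23 0 1 2 &&
    Enum.enumOk (Enum.commTest data.r) (Centralizers.moved data.r) (data.centA.map fun e => e.1.1)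
      [oneCode] (data.centB.map fun e => e.1.1) &&
    Nat.beq (Enum.foundComm data.r [oneCode]).length (data.centB.map fun e => e.1.1).length

theorem centOK_true : centOK = true := by decide +kernel

theorem good : data.Good where
  lat := ok_lat
  prime := by norm_num [data]
  odd := by norm_num [data]
  objs_ok := ok_objs
  gens_ok := ok_gens
  tree_ok := ok_tree
  cover_ok := ok_cover
  root_ok := ok_root
  fix_ok := ok_fix
  ker_ok := ok_ker
  cent := fun τ hτ => by
    have h : (τ : Equiv.Perm GolayPt) ∈ Centralizers.cent (gperm data.r) :=
      Centralizers.mem_cent.mpr ⟨τ.2, congrArg Subtype.val hτ⟩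
    have hc := centOK_true
    simp only [centOK, Bool.and_eq_true, Nat.beq_eq] at hc
    obtain ⟨⟨⟨⟨hr, himg⟩, hone⟩, henum⟩, hlen⟩ := hc
    have hi := himg
    simp only [Centralizers.imgsAre, Bool.and_eq_true, Nat.beq_eq] at hi
    obtain ⟨⟨⟨i23, i0⟩, i1⟩, -⟩ := hi
    obtain ⟨a, ha, b, hb, he⟩ := Enum.exists_stab_product inf_le_left (Centralizers.htest hr)
      (Centralizers.hpt_cent hr i23) henum (fun g hg h23 => by
        have e0 : g (pt 0) = pt 0 := by
          have h : gperm data.r (pt 23) = pt 0 := Coset.apply_pt hr (by norm_num) i23
          rw [← h, Centralizers.comm_apply hg, h23]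
        have e1 : g (pt 1) = pt 1 := by
          have h : gperm data.r (pt 0) = pt 1 := Coset.apply_pt hr (by norm_num) i0
          rw [← h, Centralizers.comm_apply hg, e0]
        have e2 : g (pt 2) = pt 2 := by
          have h : gperm data.r (pt 1) = pt 2 := Coset.apply_pt hr (by norm_num) i1
          rw [← h, Centralizers.comm_apply hg, e1]
        exact ⟨oneCode, List.mem_singleton_self _, Centralizers.imgsAre_spec hone
          (by rw [h23, idx_pt (by norm_num : 23 < 24)]) (by rw [e0, idx_pt (by norm_num : 0 < 24)])
          (by rw [e1, idx_pt (by norm_num : 1 < 24)]) (by rw [e2, idx_pt (by norm_num : 2 < 24)])⟩)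
      ((congrArg List.length (Enum.found_commTest hr)).trans hlen) h
    obtain ⟨ea, hea, rfl⟩ := List.mem_map.mp ha
    obtain ⟨eb, heb, rfl⟩ := List.mem_map.mp hb
    exact ⟨ea, hea, eb, heb, he.symm⟩

end Cfsg.Agent.Lib.MonsterLocal52.HaradaNorton
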