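import Mathlib

/-!
Words and decompositions for the permutations of the ten objects.

Owner: helper52.
-/

set_option autoImplicit false

namespace Cfsg.Agent.Lib.MonsterLocal52.HaradaNorton

/-- The objects in two halves. -/
def posL : List ℕ := [0, 2, 5, 6, 9, 1, 3, 4, 7, 8]

/-- The position of an object. -/
def posInvL : List ℕ := [0, 5, 1, 6, 7, 2, 3, 8, 9, 4]

/-- Words carrying one point of a half to another, fixing the earlier ones and the other half. -/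
def transW : List (ℕ × List ℕ × (List ℕ × List ℕ)) :=
  [(0, [], ([0, 1, 2, 3, 4], [0, 1, 2, 3, 4])),
   (0, [0, 21, 0, 21], ([1, 4, 0, 2, 3], [2, 0, 3, 4, 1])),
   (0, [24, 22, 8], ([2, 1, 0, 4, 3], [2, 1, 0, 4, 3])),
   (0, [22, 24, 3], ([3, 1, 4, 0, 2], [3, 1, 4, 0, 2])),
   (0, [21, 6], ([4, 1, 3, 2, 0], [4, 1, 3, 2, 0])),
   (0, [], ([0, 1, 2, 3, 4], [0, 1, 2, 3, 4])),
   (0, [24, 3, 0, 24, 0, 0], ([0, 2, 4, 3, 1], [0, 4, 1, 3, 2])),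
   (0, [6, 0, 21, 0], ([0, 3, 4, 1, 2], [0, 3, 4, 1, 2])),
   (0, [38, 0, 21, 24, 3, 0], ([0, 4, 3, 2, 1], [0, 4, 3, 2, 1])),
   (0, [], ([0, 1, 2, 3, 4], [0, 1, 2, 3, 4])),
   (0, [0, 22, 2, 0, 24, 0, 2], ([0, 1, 3, 4, 2], [0, 1, 4, 2, 3])),
   (0, [0, 22, 4, 0, 24, 0, 5, 0], ([0, 1, 4, 2, 3], [0, 1, 3, 4, 2])),
   (1, [], ([0, 1, 2, 3, 4], [0, 1, 2, 3, 4])),
   (1, [22, 24, 6], ([1, 0, 3, 2, 4], [1, 0, 3, 2, 4])),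
   (1, [24, 22, 3], ([2, 3, 0, 1, 4], [2, 3, 0, 1, 4])),
   (1, [21, 8], ([3, 2, 1, 0, 4], [3, 2, 1, 0, 4])),
   (1, [5, 0, 21, 0, 2], ([4, 1, 3, 2, 0], [4, 1, 3, 2, 0])),
   (1, [], ([0, 1, 2, 3, 4], [0, 1, 2, 3, 4])),
   (1, [6, 0, 22, 24, 0], ([0, 2, 1, 4, 3], [0, 2, 1, 4, 3])),
   (1, [38, 0, 22, 22, 3, 0], ([0, 3, 4, 1, 2], [0, 3, 4, 1, 2])),
   (1, [6, 0, 21, 3, 0], ([0, 4, 3, 2, 1], [0, 4, 3, 2, 1])),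
   (1, [], ([0, 1, 2, 3, 4], [0, 1, 2, 3, 4])),
   (1, [24, 0, 24, 3, 0, 0], ([0, 1, 3, 4, 2], [0, 1, 4, 2, 3])),
   (1, [22, 0, 22, 0, 21, 8], ([0, 1, 4, 2, 3], [0, 1, 3, 4, 2]))]

/-- A word exchanging the halves. -/
def swapW : List ℕ := [22, 8, 0, 21, 22, 2]

/-- The generators as pairs of permutations, possibly followed by the exchange. -/
def decL : List (Bool × (List ℕ × List ℕ) × (List ℕ × List ℕ)) :=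
  [(false, ([1, 2, 0, 3, 4], [2, 0, 1, 3, 4]), ([4, 1, 0, 3, 2], [2, 1, 4, 3, 0])),
   (false, ([0, 1, 2, 3, 4], [0, 1, 2, 3, 4]), ([0, 1, 2, 3, 4], [0, 1, 2, 3, 4])),
   (true, ([3, 0, 4, 2, 1], [1, 4, 3, 0, 2]), ([1, 4, 3, 0, 2], [3, 0, 4, 2, 1])),
   (false, ([4, 1, 3, 2, 0], [4, 1, 3, 2, 0]), ([3, 2, 1, 0, 4], [3, 2, 1, 0, 4])),
   (true, ([2, 4, 0, 3, 1], [2, 4, 0, 3, 1]), ([2, 4, 0, 3, 1], [2, 4, 0, 3, 1])),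
   (true, ([4, 2, 3, 0, 1], [3, 4, 1, 2, 0]), ([3, 4, 1, 2, 0], [4, 2, 3, 0, 1])),
   (false, ([2, 1, 0, 4, 3], [2, 1, 0, 4, 3]), ([2, 3, 0, 1, 4], [2, 3, 0, 1, 4])),
   (true, ([0, 3, 2, 4, 1], [0, 4, 2, 1, 3]), ([0, 4, 2, 1, 3], [0, 3, 2, 4, 1])),
   (false, ([3, 1, 4, 0, 2], [3, 1, 4, 0, 2]), ([1, 0, 3, 2, 4], [1, 0, 3, 2, 4])),
   (false, ([3, 1, 4, 0, 2], [3, 1, 4, 0, 2]), ([1, 0, 3, 2, 4], [1, 0, 3, 2, 4])),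
   (true, ([0, 3, 2, 4, 1], [0, 4, 2, 1, 3]), ([0, 4, 2, 1, 3], [0, 3, 2, 4, 1])),
   (false, ([2, 1, 0, 4, 3], [2, 1, 0, 4, 3]), ([2, 3, 0, 1, 4], [2, 3, 0, 1, 4])),
   (true, ([4, 2, 3, 0, 1], [3, 4, 1, 2, 0]), ([3, 4, 1, 2, 0], [4, 2, 3, 0, 1])),
   (true, ([2, 4, 0, 3, 1], [2, 4, 0, 3, 1]), ([2, 4, 0, 3, 1], [2, 4, 0, 3, 1])),
   (false, ([4, 1, 3, 2, 0], [4, 1, 3, 2, 0]), ([3, 2, 1, 0, 4], [3, 2, 1, 0, 4])),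
   (true, ([3, 0, 4, 2, 1], [1, 4, 3, 0, 2]), ([1, 4, 3, 0, 2], [3, 0, 4, 2, 1])),
   (false, ([0, 1, 2, 3, 4], [0, 1, 2, 3, 4]), ([0, 1, 2, 3, 4], [0, 1, 2, 3, 4])),
   (false, ([0, 1, 2, 3, 4], [0, 1, 2, 3, 4]), ([0, 1, 2, 3, 4], [0, 1, 2, 3, 4])),
   (false, ([0, 1, 2, 3, 4], [0, 1, 2, 3, 4]), ([0, 1, 2, 3, 4], [0, 1, 2, 3, 4])),
   (false, ([0, 1, 2, 3, 4], [0, 1, 2, 3, 4]), ([0, 1, 2, 3, 4], [0, 1, 2, 3, 4])),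
   (false, ([0, 1, 2, 3, 4], [0, 1, 2, 3, 4]), ([0, 1, 2, 3, 4], [0, 1, 2, 3, 4])),
   (false, ([3, 1, 4, 0, 2], [3, 1, 4, 0, 2]), ([2, 3, 0, 1, 4], [2, 3, 0, 1, 4])),
   (false, ([3, 1, 0, 2, 4], [2, 1, 3, 0, 4]), ([3, 0, 2, 1, 4], [1, 3, 2, 0, 4])),
   (false, ([3, 1, 0, 2, 4], [2, 1, 3, 0, 4]), ([3, 0, 2, 1, 4], [1, 3, 2, 0, 4])),
   (false, ([3, 1, 2, 4, 0], [4, 1, 2, 0, 3]), ([0, 2, 3, 1, 4], [0, 3, 1, 2, 4])),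
   (false, ([3, 1, 4, 0, 2], [3, 1, 4, 0, 2]), ([2, 3, 0, 1, 4], [2, 3, 0, 1, 4])),
   (false, ([3, 1, 2, 4, 0], [4, 1, 2, 0, 3]), ([0, 2, 3, 1, 4], [0, 3, 1, 2, 4])),
   (false, ([3, 1, 2, 4, 0], [4, 1, 2, 0, 3]), ([0, 2, 3, 1, 4], [0, 3, 1, 2, 4])),
   (false, ([3, 1, 0, 2, 4], [2, 1, 3, 0, 4]), ([3, 0, 2, 1, 4], [1, 3, 2, 0, 4])),
   (false, ([3, 1, 2, 4, 0], [4, 1, 2, 0, 3]), ([0, 2, 3, 1, 4], [0, 3, 1, 2, 4])),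
   (false, ([3, 1, 2, 4, 0], [4, 1, 2, 0, 3]), ([0, 2, 3, 1, 4], [0, 3, 1, 2, 4])),
   (false, ([3, 1, 0, 2, 4], [2, 1, 3, 0, 4]), ([3, 0, 2, 1, 4], [1, 3, 2, 0, 4])),
   (false, ([3, 1, 0, 2, 4], [2, 1, 3, 0, 4]), ([3, 0, 2, 1, 4], [1, 3, 2, 0, 4])),
   (false, ([3, 1, 4, 0, 2], [3, 1, 4, 0, 2]), ([2, 3, 0, 1, 4], [2, 3, 0, 1, 4])),
   (false, ([3, 1, 4, 0, 2], [3, 1, 4, 0, 2]), ([2, 3, 0, 1, 4], [2, 3, 0, 1, 4])),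
   (false, ([3, 1, 4, 0, 2], [3, 1, 4, 0, 2]), ([2, 3, 0, 1, 4], [2, 3, 0, 1, 4])),
   (false, ([0, 1, 2, 3, 4], [0, 1, 2, 3, 4]), ([0, 1, 2, 3, 4], [0, 1, 2, 3, 4])),
   (false, ([2, 1, 4, 3, 0], [4, 1, 0, 3, 2]), ([2, 1, 3, 0, 4], [3, 1, 0, 2, 4])),
   (false, ([4, 1, 0, 3, 2], [2, 1, 4, 3, 0]), ([3, 1, 0, 2, 4], [2, 1, 3, 0, 4])),
   (false, ([0, 1, 2, 3, 4], [0, 1, 2, 3, 4]), ([0, 1, 2, 3, 4], [0, 1, 2, 3, 4]))]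

end Cfsg.Agent.Lib.MonsterLocal52.HaradaNorton
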