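import Cfsg.Agent.Lib.MonsterLocal52.HaradaNorton.Checks
import Cfsg.Agent.Lib.MonsterLocal52.HaradaNorton.Words
import Cfsg.Agent.Lib.MonsterLocal52.Chain
import Cfsg.Prelude.Def_MonsterType

/-!
The permutations of the ten objects form the wreath product of the alternating group of degree five
by a group of order two, which has no nontrivial normal subgroup of two-power order.

Owner: helper52.
-/

set_option autoImplicit false
set_option maxRecDepth 20000

namespace Cfsg.Agent.Lib.MonsterLocal52.HaradaNorton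

open Cfsg Equiv

/-- A list as a map of five points. -/
def fn5 (l : List ℕ) (i : Fin 5) : Fin 5 :=
  if h : l.getD i.val 0 < 5 then ⟨l.getD i.val 0, h⟩ else i

/-- Inverse lists as a permutation of five points. -/
def mk5 (e : List ℕ × List ℕ) : Perm (Fin 5) :=
  if h : ∀ i, fn5 e.2 (fn5 e.1 i) = i ∧ fn5 e.1 (fn5 e.2 i) = i then
    ⟨fn5 e.1, fn5 e.2, fun i => (h i).1, fun i => (h i).2⟩
  else 1

/-- The objects in two halves. -/
def halves : Fin data.n ≃ Fin 5 ⊕ Fin 5 :=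
  (data.permE ⟨[], posInvL, posL⟩).trans (finSumFinEquiv (m := 5) (n := 5)).symm

/-- Transport to the two halves. -/
def toSum : Perm (Fin data.n) ≃* Perm (Fin 5 ⊕ Fin 5) := halves.permCongrHom

/-- The element of the wreath product with given parts. -/
def pairPerm (d : Bool × (List ℕ × List ℕ) × (List ℕ × List ℕ)) : Perm (Fin 5 ⊕ Fin 5) :=
  Perm.sumCongr (mk5 d.2.1) (mk5 d.2.2) * bif d.1 then Equiv.sumComm (Fin 5) (Fin 5) else 1

/-- The default decomposition. -/
def decAt (k : ℕ) : Bool × (List ℕ × List ℕ) × (List ℕ × List ℕ) :=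
  decL.getD k (false, ([], []), ([], []))

theorem gens_wreath : ∀ k < data.allG.length,
    Perm.sign (mk5 (decAt k).2.1) = 1 ∧ Perm.sign (mk5 (decAt k).2.2) = 1 ∧
    ∀ x, toSum (data.permE (data.allG.getD k ([], ⟨[], [], []⟩)).2) x = pairPerm (decAt k) x := by
  decide +kernel

theorem swap_ok : data.wordOK swapW = true ∧
    ∀ x, toSum (data.wordPerm swapW) x = Equiv.sumComm (Fin 5) (Fin 5) x := by
  decide +kernel

theorem left_ok : ∀ i j : Fin 5, i.val + 2 < 5 → i ≤ j →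
    ∃ e ∈ transW, e.1 = 0 ∧ data.wordOK e.2.1 = true ∧ Perm.sign (mk5 e.2.2) = 1 ∧
      (∀ x : Fin 5, x < i → mk5 e.2.2 x = x) ∧ mk5 e.2.2 i = j ∧
      ∀ x, toSum (data.wordPerm e.2.1) x = Perm.sumCongr (mk5 e.2.2) 1 x := by
  decide +kernel

theorem right_ok : ∀ i j : Fin 5, i.val + 2 < 5 → i ≤ j →
    ∃ e ∈ transW, e.1 = 1 ∧ data.wordOK e.2.1 = true ∧ Perm.sign (mk5 e.2.2) = 1 ∧
      (∀ x : Fin 5, x < i → mk5 e.2.2 x = x) ∧ mk5 e.2.2 i = j ∧
      ∀ x, toSum (data.wordPerm e.2.1) x = Perm.sumCongr 1 (mk5 e.2.2) x := by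
  decide +kernel

theorem range_map : good.phi.range.map toSum.toMonoidHom = alternatingFiveWreathTwo := by
  apply le_antisymm
  · rintro _ ⟨f, hf, rfl⟩
    have h : f ∈ Submonoid.closure good.PS := good.range_phi ▸ hf
    refine (Submonoid.closure_le
      (S := (alternatingFiveWreathTwo.comap toSum.toMonoidHom).toSubmonoid)).mpr ?_ h
    rintro _ ⟨e, he, rfl⟩
    obtain ⟨k, hk, hke⟩ := List.getElem_of_mem he
    obtain ⟨h1, h2, h3⟩ := gens_wreath k hk
    rw [show data.allG.getD k ([], ⟨[], [], []⟩) = e by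
      rw [List.getD_eq_getElem?_getD, List.getElem?_eq_getElem hk, Option.getD_some, hke]] at h3
    show toSum (data.permE e.2) ∈ alternatingFiveWreathTwo
    rw [Equiv.ext h3, pairPerm]
    refine mul_mem (Subgroup.subset_closure (Or.inl
      ⟨⟨_, Perm.mem_alternatingGroup.mpr h1⟩, ⟨_, Perm.mem_alternatingGroup.mpr h2⟩, rfl⟩)) ?_
    cases (decAt k).1
    · exact one_mem _
    · exact Subgroup.subset_closure (Or.inr rfl)
  · obtain ⟨R, hR⟩ : ∃ R, R = good.phi.range.map toSum.toMonoidHom := ⟨_, rfl⟩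
    rw [← hR]
    have hw : ∀ w, data.wordOK w = true → toSum (data.wordPerm w) ∈ R := fun w hw =>
      hR ▸ Subgroup.mem_map_of_mem _ (LocData.wordPerm_mem good hw)
    have hl : alternatingGroup (Fin 5) ≤
        R.comap ((Perm.sumCongrHom (Fin 5) (Fin 5)).comp (MonoidHom.inl _ _)) := by
      refine alternating_le _ fun i j hi hij => ?_
      obtain ⟨e, -, -, h1, hs, h2, h3, h4⟩ := left_ok i j hi hij
      refine ⟨mk5 e.2.2, ?_, Perm.mem_alternatingGroup.mpr hs, h2, h3⟩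
      show Perm.sumCongr (mk5 e.2.2) 1 ∈ R
      rw [← Equiv.ext h4]
      exact hw _ h1
    have hr : alternatingGroup (Fin 5) ≤
        R.comap ((Perm.sumCongrHom (Fin 5) (Fin 5)).comp (MonoidHom.inr _ _)) := by
      refine alternating_le _ fun i j hi hij => ?_
      obtain ⟨e, -, -, h1, hs, h2, h3, h4⟩ := right_ok i j hi hij
      refine ⟨mk5 e.2.2, ?_, Perm.mem_alternatingGroup.mpr hs, h2, h3⟩
      show Perm.sumCongr 1 (mk5 e.2.2) ∈ R
      rw [← Equiv.ext h4]
      exact hw _ h1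
    rw [alternatingFiveWreathTwo, Subgroup.closure_le]
    rintro _ (⟨σ, τ, rfl⟩ | h)
    · have h1 : Perm.sumCongr (σ : Perm (Fin 5)) 1 ∈ R := hl σ.2
      have h2 : Perm.sumCongr 1 (τ : Perm (Fin 5)) ∈ R := hr τ.2
      have := mul_mem h1 h2
      rwa [Perm.sumCongr_mul, mul_one, one_mul] at this
    · rw [Set.mem_singleton_iff] at h
      rw [h, ← Equiv.ext swap_ok.2]
      exact hw _ swap_ok.1

/-- The range is the wreath product. -/
noncomputable def rangeEquiv : good.phi.range ≃* alternatingFiveWreathTwo :=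
  (good.phi.range.equivMapOfInjective toSum.toMonoidHom toSum.injective).trans
    (MulEquiv.subgroupCongr range_map)

theorem swap_mul (σ τ : Perm (Fin 5)) :
    Equiv.sumComm (Fin 5) (Fin 5) * Perm.sumCongr σ τ =
      Perm.sumCongr τ σ * Equiv.sumComm (Fin 5) (Fin 5) := by
  ext x
  cases x <;> rfl

theorem swap_sq : Equiv.sumComm (Fin 5) (Fin 5) * Equiv.sumComm (Fin 5) (Fin 5) = 1 := by
  ext x
  cases x <;> rfl

theorem wreath_cases {g : Perm (Fin 5 ⊕ Fin 5)} (hg : g ∈ alternatingFiveWreathTwo) :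
    ∃ σ τ : alternatingGroup (Fin 5), g = Perm.sumCongr (σ : Perm (Fin 5)) τ ∨
      g = Perm.sumCongr (σ : Perm (Fin 5)) τ * Equiv.sumComm (Fin 5) (Fin 5) := by
  induction hg using Subgroup.closure_induction with
  | mem x hx =>
    rcases hx with ⟨σ, τ, rfl⟩ | hx
    · exact ⟨σ, τ, Or.inl rfl⟩
    · rw [Set.mem_singleton_iff] at hx
      exact ⟨1, 1, Or.inr (by simp [hx])⟩
  | one => exact ⟨1, 1, Or.inl (by simp)⟩
  | mul x y _ _ hx hy =>
    obtain ⟨a, b, hx⟩ := hx
    obtain ⟨c, d, hy⟩ := hy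
    rcases hx with rfl | rfl <;> rcases hy with rfl | rfl
    · exact ⟨a * c, b * d, Or.inl (by rw [Perm.sumCongr_mul]; rfl)⟩
    · exact ⟨a * c, b * d, Or.inr (by rw [← mul_assoc, Perm.sumCongr_mul]; rfl)⟩
    · exact ⟨a * d, b * c, Or.inr (by
        rw [mul_assoc, swap_mul, ← mul_assoc, Perm.sumCongr_mul]; rfl)⟩
    · refine ⟨a * d, b * c, Or.inl ?_⟩
      rw [mul_assoc, ← mul_assoc (Equiv.sumComm (Fin 5) (Fin 5)), swap_mul, mul_assoc, swap_sq,
        mul_one, Perm.sumCongr_mul]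
      rfl
  | inv x _ hx =>
    obtain ⟨a, b, hx⟩ := hx
    rcases hx with rfl | rfl
    · exact ⟨a⁻¹, b⁻¹, Or.inl (by rw [Perm.sumCongr_inv]; rfl)⟩
    · exact ⟨b⁻¹, a⁻¹, Or.inr (by
        rw [mul_inv_rev, inv_eq_of_mul_eq_one_right swap_sq, Perm.sumCongr_inv, swap_mul]; rfl)⟩

theorem wreath_no_normal_two (N : Subgroup alternatingFiveWreathTwo) (hN : N.Normal)
    (hp : IsPGroup 2 N) : N = ⊥ := by
  classical
  haveI : IsSimpleGroup (alternatingGroup (Fin 5)) := alternatingGroup.isSimpleGroup (by simp)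
  let ι : alternatingGroup (Fin 5) × alternatingGroup (Fin 5) →* alternatingFiveWreathTwo :=
    MonoidHom.mk' (fun p => ⟨Perm.sumCongr (p.1 : Perm (Fin 5)) p.2,
      Subgroup.subset_closure (Or.inl ⟨p.1, p.2, rfl⟩)⟩) fun p q => Subtype.ext (by
        show Perm.sumCongr _ _ = Perm.sumCongr _ _ * Perm.sumCongr _ _
        rw [Perm.sumCongr_mul]; rfl)
  have hι : Function.Injective ι := fun p q h => by
    have h' := congrArg Subtype.val h
    have e := Perm.sumCongrHom_injective (α := Fin 5) (β := Fin 5)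
      (a₁ := ((p.1 : Perm (Fin 5)), (p.2 : Perm (Fin 5))))
      (a₂ := ((q.1 : Perm (Fin 5)), (q.2 : Perm (Fin 5)))) h'
    exact Prod.ext (Subtype.ext (congrArg Prod.fst e)) (Subtype.ext (congrArg Prod.snd e))
  have hbot : ∀ j : alternatingGroup (Fin 5) →* alternatingFiveWreathTwo, Function.Injective j →
      (∀ g x, j (g * x * g⁻¹) = j g * j x * (j g)⁻¹) → N.comap j = ⊥ := by
    intro j hj _
    haveI : Fact (Nat.Prime 2) := ⟨Nat.prime_two⟩
    rcases (Subgroup.normal_comap (f := j) (H := N)).eq_bot_or_eq_top with h | h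
    · exact h
    exfalso
    have h2 : IsPGroup 2 (N.comap j) := hp.comap_of_injective j hj
    obtain ⟨n, hn⟩ := h2.exists_card_eq
    rw [h, Subgroup.card_top, nat_card_alternatingGroup, Nat.card_fin] at hn
    have : (3 : ℕ) ∣ 2 :=
      Nat.prime_three.dvd_of_dvd_pow (hn ▸ (by decide : (3 : ℕ) ∣ Nat.factorial 5 / 2))
    omega
  have hL := hbot (ι.comp (MonoidHom.inl _ _))
    (hι.comp fun a b h => congrArg Prod.fst h) fun g x => by simp only [map_mul, map_inv]
  have hR := hbot (ι.comp (MonoidHom.inr _ _))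
    (hι.comp fun a b h => congrArg Prod.snd h) fun g x => by simp only [map_mul, map_inv]
  have hcenter : ∀ s : alternatingGroup (Fin 5), (∀ g, g * s = s * g) → s = 1 := by
    intro s hs
    have hs' : s ∈ Subgroup.center (alternatingGroup (Fin 5)) := Subgroup.mem_center_iff.mpr hs
    rw [alternatingGroup.center_eq_bot (by simp)] at hs'
    exact Subgroup.mem_bot.mp hs'
  have hM : ∀ p, ι p ∈ N → p = 1 := by
    rintro ⟨s, t⟩ hst
    have hc : ∀ q, ι ((s, t) * q * (s, t)⁻¹ * q⁻¹) ∈ N := fun q => by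
      rw [mul_assoc, mul_assoc, ← mul_assoc q, map_mul]
      refine mul_mem hst ?_
      rw [map_mul, map_mul, map_inv, map_inv]
      exact hN.conj_mem _ (inv_mem hst) _
    have h1 : s = 1 := hcenter s fun g => by
      have h : ι ((s, t) * (g, 1) * (s, t)⁻¹ * (g, 1)⁻¹) ∈ N := hc _
      have h' : s * g * s⁻¹ * g⁻¹ ∈ N.comap (ι.comp (MonoidHom.inl _ _)) := by
        show ι (s * g * s⁻¹ * g⁻¹, 1) ∈ N
        simpa [Prod.mk_mul_mk, Prod.inv_mk] using h
      rw [hL, Subgroup.mem_bot, mul_inv_eq_one, mul_inv_eq_iff_eq_mul] at h'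
      exact h'.symm
    have h2 : t = 1 := hcenter t fun g => by
      have h : ι ((s, t) * (1, g) * (s, t)⁻¹ * (1, g)⁻¹) ∈ N := hc _
      have h' : t * g * t⁻¹ * g⁻¹ ∈ N.comap (ι.comp (MonoidHom.inr _ _)) := by
        show ι (1, t * g * t⁻¹ * g⁻¹) ∈ N
        simpa [Prod.mk_mul_mk, Prod.inv_mk] using h
      rw [hR, Subgroup.mem_bot, mul_inv_eq_one, mul_inv_eq_iff_eq_mul] at h'
      exact h'.symm
    rw [h1, h2]
    rfl
  rw [Subgroup.eq_bot_iff_forall]
  intro x hx
  obtain ⟨s, t, h | h⟩ := wreath_cases x.2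
  · have e : x = ι (s, t) := Subtype.ext h
    have h1 : (s, t) = 1 := hM _ (e ▸ hx)
    rw [e, h1, map_one]
  · exfalso
    obtain ⟨σ, hσ⟩ : ∃ σ : alternatingGroup (Fin 5), σ ≠ 1 := exists_ne 1
    obtain ⟨p, hp'⟩ : ∃ p, p = (σ⁻¹, t * σ * t⁻¹) := ⟨_, rfl⟩
    have hconj : x * ι (σ, 1) * x⁻¹ = ι (1, t * σ * t⁻¹) := by
      rw [mul_inv_eq_iff_eq_mul]
      refine Subtype.ext ?_
      show (x : Perm (Fin 5 ⊕ Fin 5)) * Perm.sumCongr (σ : Perm (Fin 5)) _ =
        Perm.sumCongr _ _ * (x : Perm (Fin 5 ⊕ Fin 5))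
      rw [h, mul_assoc, swap_mul, ← mul_assoc, ← mul_assoc, Perm.sumCongr_mul, Perm.sumCongr_mul]
      simp
    have hmem : ι p ∈ N := by
      have h2 : x * (ι (σ, 1) * x⁻¹ * (ι (σ, 1))⁻¹) ∈ N :=
        mul_mem hx (hN.conj_mem _ (inv_mem hx) _)
      have e : x * (ι (σ, 1) * x⁻¹ * (ι (σ, 1))⁻¹) = ι p := by
        rw [← mul_assoc, ← mul_assoc, hconj, ← map_inv, ← map_mul, hp']
        simp
      rwa [e] at h2
    have := congrArg Prod.fst (hM p hmem)
    rw [hp'] at this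
    exact hσ (inv_eq_one.mp this)

theorem no_normal_two (N : Subgroup good.phi.range) (hN : N.Normal) (hp : IsPGroup 2 N) : N = ⊥ := by
  have h := wreath_no_normal_two (N.map rangeEquiv.toMonoidHom)
    (hN.map _ rangeEquiv.surjective) (hp.map _)
  exact (Subgroup.map_eq_bot_iff_of_injective _ rangeEquiv.injective).mp h

end Cfsg.Agent.Lib.MonsterLocal52.HaradaNorton
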