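import Cfsg.Agent.Lib.MonsterLocal52.HaradaNorton.Group
import Cfsg.Agent.Lib.MonsterLocal52.Setup

/-!
Monster type: the centraliser of a Sylow 5-subgroup of the centraliser of two commuting conjugates,
modulo that subgroup, is of Harada–Norton type.

Owner: helper52.
-/

set_option autoImplicit false
set_option maxRecDepth 20000

namespace Cfsg.Agent.Lib.MonsterLocal52.HaradaNorton

open Cfsg Cfsg.Agent.Lib.Leech Cfsg.Agent.Lib.Golay
open Cfsg.Agent.Lib.LeechMod2

local notation "Cen[" z "]" => Subgroup.centralizer ({z} : Set _)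

theorem fact_five_crossBar : (501397585920 : ℕ).factorization 5 = 1 := by
  rw [show (501397585920 : ℕ) = 5 * 100279517184 by norm_num,
    Nat.factorization_mul (by norm_num) (by norm_num), Finsupp.add_apply,
    Nat.Prime.factorization_self (by norm_num), Nat.factorization_eq_zero_of_not_dvd (by norm_num)]

theorem β_mem : good.β ∈ crossGroup.map Frame.bar :=
  ⟨_, Frame.permHom_mem_cross (LatData.σ good.lat), rfl⟩

variable {G : Type*} [Group G] [Finite G] {z : G} {Q : Subgroup (Subgroup.centralizer ({z} : Set G))}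
  [Q.Normal]

/-- The centraliser modulo the Sylow 5-subgroup is of Harada–Norton type. -/
theorem haradaNorton_of_monster (hM : IsOfMonsterType z Q) (s : G)
    (hsQ : ∃ hsc : s ∈ Cen[z], (⟨s, hsc⟩ : Cen[z]) ∈ Q) (hs : IsConj z s) (hs1 : s ≠ z)
    (B : Subgroup G) (hB : B ≤ Subgroup.centralizer ({z, s} : Set G))
    (hBp : Nat.card B = 5 ^ (Nat.card ↥(Subgroup.centralizer ({z, s} : Set G))).factorization 5)
    [hn : (B.subgroupOf (Subgroup.centralizer (B : Set G))).Normal] :
    IsOfHaradaNortonType (↥(Subgroup.centralizer (B : Set G)) ⧸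
      B.subgroupOf (Subgroup.centralizer (B : Set G))) := by
  haveI h5 : Fact (Nat.Prime 5) := ⟨by norm_num⟩
  obtain ⟨hS, e, ψ, hle, hψ, hrange, hker⟩ := exists_standard hM hsQ hs hs1
  obtain ⟨f, hf⟩ : ∃ f, f =
    (e.toMonoidHom.comp (QuotientGroup.mk' Q)).comp (Subgroup.inclusion hle) := ⟨_, rfl⟩
  rw [← hf] at hrange hker
  have hcard : (Nat.card ↥(Subgroup.centralizer ({z, s} : Set G))).factorization 5 = 1 := by
    have h := Subgroup.card_mul_index f.ker
    rw [Subgroup.index_ker, hrange, card_crossBar] at h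
    obtain ⟨n, hn⟩ := IsPGroup.iff_card.mp hker
    rw [← h, hn, Nat.factorization_mul (by positivity) (by norm_num), Finsupp.add_apply,
      fact_five_crossBar, Nat.factorization_eq_zero_of_not_dvd (fun hd => by
        have := (Nat.prime_dvd_prime_iff_eq h5.out Nat.prime_two).mp (h5.out.dvd_of_dvd_pow hd)
        omega)]
  rw [hcard, pow_one] at hBp
  obtain ⟨⟨b0, hb0B⟩, hb0⟩ := exists_prime_orderOf_dvd_card' (G := B) 5 (by rw [hBp])
  rw [Subgroup.orderOf_mk] at hb0
  have hBz : B = Subgroup.zpowers b0 :=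
    (Subgroup.eq_of_le_of_card_ge (Subgroup.zpowers_le.mpr hb0B)
      (by rw [hBp, Nat.card_zpowers, hb0])).symm
  let b : Cen[z] := ⟨b0, hle (hB hb0B)⟩
  have hb5 : b ^ 5 = 1 := Subtype.ext (by
    rw [SubgroupClass.coe_pow, OneMemClass.coe_one]
    exact hb0 ▸ pow_orderOf_eq_one b0)
  have hb1 : b ≠ 1 := fun h => by
    have h' : b0 = 1 := congrArg Subtype.val h
    rw [h', orderOf_one] at hb0
    norm_num at hb0
  obtain ⟨x, hxdef⟩ : ∃ x : Spor.Co1, x = e (QuotientGroup.mk b) := ⟨_, rfl⟩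
  have hx5 : orderOf x = 5 := hxdef ▸ pr_ne_one h5.out (by norm_num) hS e hb5 hb1
  have hxX : x ∈ crossGroup.map Frame.bar := by
    rw [← hrange, hxdef, hf]
    exact ⟨⟨b0, hB hb0B⟩, rfl⟩
  haveI : Finite Spor.Co1 := Finite.of_surjective _ Frame.bar_surjective
  have hsyl : ∀ y : Spor.Co1, y ∈ crossGroup.map Frame.bar → orderOf y = 5 →
      ∃ P : Sylow 5 (crossGroup.map Frame.bar),
        (P : Subgroup (crossGroup.map Frame.bar)).map (crossGroup.map Frame.bar).subtype =
          Subgroup.zpowers y := by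
    intro y hy h7
    refine ⟨Sylow.ofCard (Subgroup.zpowers (⟨y, hy⟩ : crossGroup.map Frame.bar)) ?_, ?_⟩
    · rw [Nat.card_zpowers, Subgroup.orderOf_mk, h7, card_crossBar, fact_five_crossBar, pow_one]
    · rw [Sylow.coe_ofCard, MonoidHom.map_zpowers]
      rfl
  obtain ⟨P, hP⟩ := hsyl x hxX hx5
  obtain ⟨R, hR⟩ := hsyl good.β β_mem good.orderOf_β
  obtain ⟨c, hc⟩ := MulAction.exists_smul_eq (crossGroup.map Frame.bar) P R
  have hmem : good.β ∈ (Subgroup.zpowers x).map (MulAut.conj (c : Spor.Co1)).toMonoidHom := by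
    have h1 : good.β ∈ Subgroup.zpowers good.β := Subgroup.mem_zpowers _
    rw [← hR, ← hc, Sylow.coe_subgroup_smul] at h1
    obtain ⟨_, ⟨w, hw, rfl⟩, hwe⟩ := h1
    refine ⟨(w : Spor.Co1), ?_, ?_⟩
    · rw [← hP]; exact ⟨w, hw, rfl⟩
    · rw [← hwe]; rfl
  obtain ⟨_, ⟨i, rfl⟩, hi⟩ := hmem
  have hbi : (b ^ i) ^ data.p = 1 := by
    show (b ^ i) ^ 5 = 1
    rw [← zpow_natCast, ← zpow_mul, mul_comm, zpow_mul, zpow_natCast, hb5, one_zpow]
  obtain ⟨e', ψ', X⟩ := ctx_of_conj (H := good) hS hψ (b := b ^ i) hbi (c := (c : Spor.Co1)) (by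
    rw [QuotientGroup.mk_zpow, map_zpow e, ← hxdef, ← hi]
    rfl)
  have hBi : B = Subgroup.zpowers ((b ^ i : Cen[z]) : G) := by
    rw [hBz, SubgroupClass.coe_zpow]
    show Subgroup.zpowers b0 = Subgroup.zpowers (b0 ^ i)
    refine (Subgroup.eq_of_le_of_card_ge (Subgroup.zpowers_le.mpr
      (zpow_mem (Subgroup.mem_zpowers _) i)) ?_).symm
    have h := X.orderOf_b
    rw [← Subgroup.orderOf_coe, SubgroupClass.coe_zpow] at h
    rw [Nat.card_zpowers, Nat.card_zpowers, hb0]
    exact le_of_eq h.symm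
  obtain ⟨z', R', hR', hset, hiso⟩ := X.local_type (B := B) hBi no_normal_two rangeEquiv
  exact ⟨z', R', hR', hset, hiso⟩

end Cfsg.Agent.Lib.MonsterLocal52.HaradaNorton
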